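import Mathlib

set_option autoImplicit false
open Finsupp

namespace Groth.Agent.Lib.Helper32.SmoothMon

section Monoid

variable {N : Type} [AddCommMonoid N] [IsCancelAdd N]

theorem exists_min_gen [AddMonoid.FG N] :
    ∃ S : Finset N, AddSubmonoid.closure (S : Set N) = ⊤ ∧
      ∀ S' : Finset N, AddSubmonoid.closure (S' : Set N) = ⊤ → S.card ≤ S'.card := by
  classical
  have hex : ∃ m : ℕ, ∃ S : Finset N, S.card = m ∧ AddSubmonoid.closure (S : Set N) = ⊤ := by
    obtain ⟨S, hS⟩ := (AddMonoid.fg_def.mp (inferInstance : AddMonoid.FG N))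
    exact ⟨S.card, S, rfl, hS⟩
  obtain ⟨S, hSm, hS⟩ := Nat.find_spec hex
  refine ⟨S, hS, fun S' h' => ?_⟩
  rw [hSm]
  exact Nat.find_min' hex ⟨S', rfl, h'⟩

variable (S : Finset N)

noncomputable def phi : ({x // x ∈ S} →₀ ℕ) →+ N :=
  (Finsupp.linearCombination ℕ (fun i : {x // x ∈ S} => (i : N))).toAddMonoidHom

theorem phi_single (i : {x // x ∈ S}) (n : ℕ) : phi S (Finsupp.single i n) = n • (i : N) := by
  simp [phi]

theorem phi_surjective (hS : AddSubmonoid.closure (S : Set N) = ⊤) :
    Function.Surjective (phi S) := by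
  intro n
  have h1 : n ∈ AddSubmonoid.closure (S : Set N) := by rw [hS]; trivial
  rw [← Submodule.span_nat_eq_addSubmonoidClosure, Submodule.mem_toAddSubmonoid] at h1
  have h2 : (S : Set N) = Set.range (fun i : {x // x ∈ S} => (i : N)) := by
    ext x
    simp
  rw [h2, ← Finsupp.range_linearCombination] at h1
  obtain ⟨c, hc⟩ := h1
  exact ⟨c, hc⟩

variable (hS : AddSubmonoid.closure (S : Set N) = ⊤)
  (hmin : ∀ S' : Finset N, AddSubmonoid.closure (S' : Set N) = ⊤ → S.card ≤ S'.card)

include hS hmin in
omit [IsCancelAdd N] in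
theorem closure_erase_ne_top [DecidableEq N] (i : {x // x ∈ S}) :
    AddSubmonoid.closure ((S.erase (i : N) : Finset N) : Set N) ≠ ⊤ := by
  intro h
  have h1 := hmin _ h
  rw [Finset.card_erase_of_mem i.2] at h1
  have : 0 < S.card := Finset.card_pos.mpr ⟨i, i.2⟩
  omega

include hS hmin in
omit [IsCancelAdd N] in
theorem not_mem_closure_erase [DecidableEq N] (i : {x // x ∈ S}) :
    (i : N) ∉ AddSubmonoid.closure ((S.erase (i : N) : Finset N) : Set N) := by
  intro h
  apply closure_erase_ne_top S hS hmin i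
  rw [eq_top_iff, ← hS]
  apply AddSubmonoid.closure_le.mpr
  intro s hs
  by_cases hsi : s = (i : N)
  · rw [hsi]; exact h
  · exact AddSubmonoid.subset_closure (Finset.mem_coe.mpr (Finset.mem_erase.mpr ⟨hsi, hs⟩))

include hS hmin in
omit [IsCancelAdd N] in
theorem coe_ne_zero (i : {x // x ∈ S}) : (i : N) ≠ 0 := by
  classical
  intro h
  apply not_mem_closure_erase S hS hmin i
  rw [h]
  exact zero_mem _

include hS hmin in
theorem phi_eq_zero (hsharp : ∀ n : N, IsAddUnit n → n = 0) (c : {x // x ∈ S} →₀ ℕ)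
    (hc : phi S c = 0) : c = 0 := by
  classical
  by_contra hne
  obtain ⟨i, hi⟩ : ∃ i, c i ≠ 0 := by
    by_contra h
    push Not at h
    exact hne (Finsupp.ext h)
  obtain ⟨k, hk⟩ := Nat.exists_eq_succ_of_ne_zero hi
  have h1 : c = Finsupp.single i (c i) + Finsupp.erase i c := (Finsupp.single_add_erase i c).symm
  have h2 : phi S c = (i : N) + (k • (i : N) + phi S (Finsupp.erase i c)) := by
    conv_lhs => rw [h1]
    rw [map_add, phi_single, hk, succ_nsmul, add_comm (k • (i : N)), add_assoc]
  rw [h2] at hc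
  exact coe_ne_zero S hS hmin i (hsharp _ (IsAddUnit.of_add_eq_zero _ hc))

include hS hmin in
theorem two_le_degree (hsharp : ∀ n : N, IsAddUnit n → n = 0) (a b : {x // x ∈ S} →₀ ℕ)
    (hab : phi S a = phi S b) (hne : a ≠ b) : 2 ≤ a.degree := by
  classical
  by_contra hlt
  push Not at hlt
  by_cases ha0 : a = 0
  · apply hne
    rw [ha0, map_zero] at hab
    rw [ha0, phi_eq_zero S hS hmin hsharp b hab.symm]
  obtain ⟨i, hi⟩ : ∃ i, a i ≠ 0 := by
    by_contra h
    push Not at h
    exact ha0 (Finsupp.ext h)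
  have h1 : a = Finsupp.single i (a i) + Finsupp.erase i a := (Finsupp.single_add_erase i a).symm
  have hdeg : a.degree = a i + (Finsupp.erase i a).degree := by
    conv_lhs => rw [h1]
    rw [map_add, Finsupp.degree_single]
  have hai : a i = 1 := by omega
  have her : (Finsupp.erase i a).degree = 0 := by omega
  have her0 : Finsupp.erase i a = 0 := (Finsupp.degree_eq_zero_iff _).mp her
  have ha : a = Finsupp.single i 1 := by
    rw [h1, her0, add_zero, hai]
  have hphia : phi S a = (i : N) := by
    rw [ha, phi_single, one_nsmul]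
  have h1b : b = Finsupp.single i (b i) + Finsupp.erase i b := (Finsupp.single_add_erase i b).symm
  have hphib : phi S b = (b i) • (i : N) + phi S (Finsupp.erase i b) := by
    conv_lhs => rw [h1b]
    rw [map_add, phi_single]
  rcases Nat.eq_zero_or_pos (b i) with hbi | hbi
  · apply not_mem_closure_erase S hS hmin i
    have hmem : phi S (Finsupp.erase i b) ∈
        AddSubmonoid.closure ((S.erase (i : N) : Finset N) : Set N) := by
      simp only [phi, LinearMap.toAddMonoidHom_coe, Finsupp.linearCombination_apply]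
      refine AddSubmonoid.sum_mem _ fun j hj => ?_
      refine AddSubmonoid.nsmul_mem _ (AddSubmonoid.subset_closure ?_) _
      rw [Finsupp.support_erase, Finset.mem_erase] at hj
      refine Finset.mem_coe.mpr (Finset.mem_erase.mpr ⟨?_, j.2⟩)
      intro h
      exact hj.1 (Subtype.ext h)
    have heq : phi S (Finsupp.erase i b) = (i : N) := by
      rw [← hphia, hab, hphib, hbi, zero_nsmul, zero_add]
    rwa [heq] at hmem
  · obtain ⟨k, hk⟩ := Nat.exists_eq_succ_of_ne_zero (Nat.pos_iff_ne_zero.mp hbi)
    rw [hk, succ_nsmul, add_comm (k • (i : N)), add_assoc] at hphib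
    rw [hphia, hphib] at hab
    have h3 : k • (i : N) + phi S (Finsupp.erase i b) = 0 := by
      have := hab.symm
      rwa [add_eq_left] at this
    have h4 : phi S (Finsupp.single i k + Finsupp.erase i b) = 0 := by
      rw [map_add, phi_single, h3]
    have h5 := phi_eq_zero S hS hmin hsharp _ h4
    have h6 : k = 0 := by
      have := DFunLike.congr_fun h5 i
      simpa using this
    have h7 : Finsupp.erase i b = 0 := by
      rw [h6, Finsupp.single_zero, zero_add] at h5
      exact h5
    apply hne
    rw [ha, h1b, h7, add_zero, hk, h6]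

end Monoid

end Groth.Agent.Lib.Helper32.SmoothMon
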