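import Mathlib
import Groth.Agent.Lib.Helper32.SmoothMon.Monoid

set_option autoImplicit false
universe u
open MvPolynomial

namespace Groth.Agent.Lib.Helper32.SmoothMon

section Taylor

variable {R : Type u} [CommRing R] {σ : Type} (K : Ideal (MvPolynomial σ R))
  (p : σ → MvPolynomial σ R) (hp : ∀ i, p i - X i ∈ K)

include hp in
theorem aeval_sub_mem (f : MvPolynomial σ R) : aeval p f - f ∈ K := by
  have h1 : (Ideal.Quotient.mkₐ R K).comp (aeval p) = Ideal.Quotient.mkₐ R K := by
    apply MvPolynomial.algHom_ext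
    intro i
    simp only [AlgHom.comp_apply, aeval_X, Ideal.Quotient.mkₐ_eq_mk]
    exact Ideal.Quotient.eq.mpr (hp i)
  have h := AlgHom.congr_fun h1 f
  simp only [AlgHom.comp_apply, Ideal.Quotient.mkₐ_eq_mk] at h
  exact Ideal.Quotient.eq.mp h

include hp in
theorem aeval_sub_mem_of_mem_sq (f : MvPolynomial σ R)
    (hf : f ∈ idealOfVars σ R * idealOfVars σ R) :
    aeval p f - f ∈ (idealOfVars σ R ⊔ K) * K := by
  refine Submodule.mul_induction_on hf ?_ ?_
  · intro u hu v hv
    have e : aeval p (u * v) - u * v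
        = (aeval p v) * (aeval p u - u) + u * (aeval p v - v) := by
      rw [map_mul]; ring
    rw [e]
    refine Ideal.add_mem _ ?_ ?_
    · refine Ideal.mul_mem_mul ?_ (aeval_sub_mem K p hp u)
      have : aeval p v = v + (aeval p v - v) := by ring
      rw [this]
      exact Ideal.add_mem _ (Ideal.mem_sup_left hv)
        (Ideal.mem_sup_right (aeval_sub_mem K p hp v))
    · exact Ideal.mul_mem_mul (Ideal.mem_sup_left hu) (aeval_sub_mem K p hp v)
  · intro x y hx hy
    have : aeval p (x + y) - (x + y) = (aeval p x - x) + (aeval p y - y) := by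
      rw [map_add]; ring
    rw [this]
    exact Ideal.add_mem _ hx hy

end Taylor

section Ker

variable {R : Type u} [CommRing R] {σ : Type} {B : Type u} [CommRing B] [Algebra R B]

theorem ker_le_pow_aux (π : MvPolynomial σ R →ₐ[R] B) (K : Ideal (MvPolynomial σ R))
    (hmemK : ∀ f, f ∈ K ↔ π f = 0)
    (g : B →ₐ[R] MvPolynomial σ R ⧸ K ^ 2)
    (hg : ∀ (y : B) (q : MvPolynomial σ R), Ideal.Quotient.mk (K ^ 2) q = g y → π q = y)
    (G : Set (MvPolynomial σ R))
    (hGK : ∀ f ∈ G, π f = 0)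
    (hG2 : ∀ f ∈ G, f ∈ idealOfVars σ R * idealOfVars σ R)
    (hK : ∀ f, π f = 0 → f ∈ Ideal.span G) (j : ℕ) (f : MvPolynomial σ R) (hf : π f = 0) :
    f ∈ idealOfVars σ R ^ j := by
  choose p hp using fun i : σ => Ideal.Quotient.mk_surjective (g (π (X i)))
  have hpK : ∀ i, p i - X i ∈ K := by
    intro i
    rw [hmemK, map_sub, sub_eq_zero]
    exact hg _ _ (hp i)
  have hτ : (Ideal.Quotient.mkₐ R (K ^ 2)).comp (aeval p) = g.comp π := by
    apply MvPolynomial.algHom_ext
    intro i
    simp only [AlgHom.comp_apply, aeval_X, Ideal.Quotient.mkₐ_eq_mk]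
    exact hp i
  have hK2 : ∀ f, π f = 0 → aeval p f ∈ K ^ 2 := by
    intro f hf
    have h := AlgHom.congr_fun hτ f
    simp only [AlgHom.comp_apply, Ideal.Quotient.mkₐ_eq_mk, hf, map_zero] at h
    exact Ideal.Quotient.eq_zero_iff_mem.mp h
  have hKG : K ≤ Ideal.span G := fun f hf => hK f ((hmemK f).mp hf)
  have hKm : K ≤ idealOfVars σ R := by
    refine hKG.trans (Ideal.span_le.mpr fun f hf => ?_)
    exact Ideal.mul_le_left (hG2 f hf)
  have hstep : K ≤ idealOfVars σ R * K := by
    refine hKG.trans (Ideal.span_le.mpr fun f hf => ?_)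
    have h1 := hK2 f (hGK f hf)
    have h2 := aeval_sub_mem_of_mem_sq K p hpK f (hG2 f hf)
    rw [sup_eq_left.mpr hKm] at h2
    have h3 : K ^ 2 ≤ idealOfVars σ R * K := by
      rw [pow_two]
      exact Ideal.mul_mono_left hKm
    have : f = aeval p f - (aeval p f - f) := by ring
    rw [this]
    exact Ideal.sub_mem _ (h3 h1) h2
  have hall : ∀ j : ℕ, K ≤ idealOfVars σ R ^ j := by
    intro j
    induction j with
    | zero => rw [pow_zero, Ideal.one_eq_top]; exact le_top
    | succ j ih =>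
      rw [pow_succ']
      exact hstep.trans (Ideal.mul_mono_right ih)
  exact hall j ((hmemK f).mpr hf)

theorem ker_le_pow (π : MvPolynomial σ R →ₐ[R] B) (hπ : Function.Surjective π)
    [Algebra.FormallySmooth R B] (G : Set (MvPolynomial σ R))
    (hGK : ∀ f ∈ G, π f = 0)
    (hG2 : ∀ f ∈ G, f ∈ idealOfVars σ R * idealOfVars σ R)
    (hK : ∀ f, π f = 0 → f ∈ Ideal.span G) (j : ℕ) (f : MvPolynomial σ R) (hf : π f = 0) :
    f ∈ idealOfVars σ R ^ j := by
  obtain ⟨g, hg⟩ := (Algebra.FormallySmooth.iff_split_surjection π hπ).mp inferInstance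
  refine ker_le_pow_aux π (RingHom.ker π.toRingHom) (fun f => ?_) g ?_ G hGK hG2 hK j f hf
  · rw [RingHom.mem_ker]; rfl
  · intro y q hq
    have h1 : π.kerSquareLift (Ideal.Quotient.mk _ q) = π q := π.kerSquareLift_mk q
    rw [← h1, hq]
    exact AlgHom.congr_fun hg y

end Ker

end Groth.Agent.Lib.Helper32.SmoothMon
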