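import Mathlib
import Groth.Agent.Lib.Helper32.SmoothMon.Alg

set_option autoImplicit false
universe u
open MvPolynomial

namespace Groth.Agent.Lib.Helper32.SmoothMon

section Main

variable (R : Type u) [CommRing R] {N : Type} [AddCommMonoid N] [IsCancelAdd N] (S : Finset N)

noncomputable def piHom : MvPolynomial {x // x ∈ S} R →ₐ[R] AddMonoidAlgebra R N :=
  AddMonoidAlgebra.mapDomainAlgHom R R (phi S)

theorem piHom_apply (f : MvPolynomial {x // x ∈ S} R) :
    piHom R S f = AddMonoidAlgebra.mapDomain (phi S) f := rfl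

theorem piHom_monomial (a : {x // x ∈ S} →₀ ℕ) (r : R) :
    piHom R S (monomial a r) = AddMonoidAlgebra.single (phi S a) r := by
  rw [piHom_apply, ← MvPolynomial.single_eq_monomial, AddMonoidAlgebra.mapDomain_single]

theorem piHom_surjective (hS : AddSubmonoid.closure (S : Set N) = ⊤) :
    Function.Surjective (piHom R S) := by
  intro x
  obtain ⟨c, hc⟩ := Finsupp.mapDomain_surjective (phi_surjective S hS) x.coeff
  refine ⟨AddMonoidAlgebra.ofCoeff c, ?_⟩
  rw [piHom_apply]
  apply AddMonoidAlgebra.ext
  simp [AddMonoidAlgebra.mapDomain, hc]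

def binomials : Set (MvPolynomial {x // x ∈ S} R) :=
  {f | ∃ a b, phi S a = phi S b ∧ f = monomial a 1 - monomial b 1}

theorem piHom_binomial (f : MvPolynomial {x // x ∈ S} R) (hf : f ∈ binomials R S) :
    piHom R S f = 0 := by
  obtain ⟨a, b, hab, rfl⟩ := hf
  rw [map_sub, piHom_monomial, piHom_monomial, hab, sub_self]

theorem monomial_mem_sq (a : {x // x ∈ S} →₀ ℕ) (ha : 2 ≤ a.degree) :
    (monomial a (1 : R)) ∈ idealOfVars {x // x ∈ S} R * idealOfVars {x // x ∈ S} R := by
  classical
  rw [← pow_two, mem_pow_idealOfVars_iff]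
  intro x hx
  have := support_monomial_subset hx
  rw [Finset.mem_singleton] at this
  rw [this]
  exact ha

theorem binomial_mem_sq (hS : AddSubmonoid.closure (S : Set N) = ⊤)
    (hmin : ∀ S' : Finset N, AddSubmonoid.closure (S' : Set N) = ⊤ → S.card ≤ S'.card)
    (hsharp : ∀ n : N, IsAddUnit n → n = 0)
    (f : MvPolynomial {x // x ∈ S} R) (hf : f ∈ binomials R S) :
    f ∈ idealOfVars {x // x ∈ S} R * idealOfVars {x // x ∈ S} R := by
  obtain ⟨a, b, hab, rfl⟩ := hf
  by_cases h : a = b
  · rw [h, sub_self]; exact zero_mem _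
  · exact Ideal.sub_mem _ (monomial_mem_sq R S a (two_le_degree S hS hmin hsharp a b hab h))
      (monomial_mem_sq R S b (two_le_degree S hS hmin hsharp b a hab.symm (Ne.symm h)))

theorem mem_span_binomials (hS : AddSubmonoid.closure (S : Set N) = ⊤)
    (f : MvPolynomial {x // x ∈ S} R) (hf : piHom R S f = 0) :
    f ∈ Ideal.span (binomials R S) := by
  classical
  let s : N → ({x // x ∈ S} →₀ ℕ) := Function.surjInv (phi_surjective S hS)
  have hs : ∀ n, phi S (s n) = n := Function.surjInv_eq (phi_surjective S hS)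
  have hD : ∀ f : MvPolynomial {x // x ∈ S} R,
      f - AddMonoidAlgebra.mapDomain (s ∘ phi S) f ∈ Ideal.span (binomials R S) := by
    intro f
    induction f using MvPolynomial.induction_on' with
    | monomial a r =>
      rw [← MvPolynomial.single_eq_monomial, AddMonoidAlgebra.mapDomain_single,
        MvPolynomial.single_eq_monomial, MvPolynomial.single_eq_monomial]
      have : monomial a r - monomial ((s ∘ phi S) a) r
          = C r * (monomial a 1 - monomial ((s ∘ phi S) a) 1) := by
        rw [mul_sub, C_mul_monomial, C_mul_monomial, mul_one]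
      rw [this]
      refine Ideal.mul_mem_left _ _ (Ideal.subset_span ⟨a, (s ∘ phi S) a, ?_, rfl⟩)
      simp only [Function.comp_apply, hs]
    | add p q hp hq =>
      rw [AddMonoidAlgebra.mapDomain_add]
      have : p + q - (AddMonoidAlgebra.mapDomain (s ∘ phi S) p
          + AddMonoidAlgebra.mapDomain (s ∘ phi S) q)
          = (p - AddMonoidAlgebra.mapDomain (s ∘ phi S) p)
            + (q - AddMonoidAlgebra.mapDomain (s ∘ phi S) q) := by ring
      rw [this]
      exact Ideal.add_mem _ hp hq
  have h0 : AddMonoidAlgebra.mapDomain (s ∘ phi S) f = 0 := by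
    have h1 : AddMonoidAlgebra.mapDomain (s ∘ phi S) f
        = AddMonoidAlgebra.mapDomain s (AddMonoidAlgebra.mapDomain (phi S) f) := by
      ext; simp [AddMonoidAlgebra.mapDomain, Finsupp.mapDomain_comp]
    rw [h1, ← piHom_apply, hf, AddMonoidAlgebra.mapDomain_zero]
  have := hD f
  rwa [h0, sub_zero] at this

theorem phi_injective [Nontrivial R] [Algebra.FormallySmooth R (AddMonoidAlgebra R N)]
    (hS : AddSubmonoid.closure (S : Set N) = ⊤)
    (hmin : ∀ S' : Finset N, AddSubmonoid.closure (S' : Set N) = ⊤ → S.card ≤ S'.card)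
    (hsharp : ∀ n : N, IsAddUnit n → n = 0) : Function.Injective (phi S) := by
  classical
  intro a b hab
  by_contra hne
  have hf : piHom R S (monomial a 1 - monomial b 1) = 0 :=
    piHom_binomial R S _ ⟨a, b, hab, rfl⟩
  have h1 := ker_le_pow (piHom R S) (piHom_surjective R S hS) (binomials R S)
    (piHom_binomial R S) (binomial_mem_sq R S hS hmin hsharp) (mem_span_binomials R S hS)
    (a.degree + 1) _ hf
  rw [mem_pow_idealOfVars_iff'] at h1
  have h2 := h1 a (Nat.lt_succ_self _)
  rw [coeff_sub, coeff_monomial, coeff_monomial, if_pos rfl, if_neg (Ne.symm hne), sub_zero] at h2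
  exact one_ne_zero h2

end Main

end Groth.Agent.Lib.Helper32.SmoothMon
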